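import Cfsg.Agent.Helper71.BSW.DefsCT
import Cfsg.Agent.Helper74.DefectZero
import Cfsg.Agent.Helper79.CharComplete

/-!
# S3282 piece (S6) for helper71: defect zero vanishing.
-/

set_option autoImplicit false

namespace Cfsg.Agent.Helper29.BSW

open Cfsg Cfsg.Agent.Helper71.BSW

theorem factorization_mul_right_of_not_dvd {a b p : ℕ} (ha : a ≠ 0) (hb : b ≠ 0) (hp : ¬ p ∣ a) :
    (a * b).factorization p = b.factorization p := by
  rw [Nat.factorization_mul ha hb, Finsupp.add_apply, Nat.factorization_eq_zero_of_not_dvd hp,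
    zero_add]

/-- the arithmetic: `N = 2k q d`, `q = 2k + δ`, `d = k + δ`, `k` even, `δ = ±1`. -/
theorem arith_S6 {k q d N : ℕ} {δ : ℤ} (hδ : δ = 1 ∨ δ = -1) (hk2 : 2 ∣ k) (hk0 : k ≠ 0) (hN0 : N ≠ 0)
    (hq : (q : ℤ) = 2 * k + δ) (hd : (d : ℤ) = k + δ)
    (hN : (N : ℤ) = 2 * k * (2 * k + δ) * (k + δ)) :
    (∀ p : ℕ, p.Prime → p ∣ q → p ^ N.factorization p ∣ q) ∧
    (∀ r : ℕ, r.Prime → r ∣ d → r ^ N.factorization r ∣ d) := by
  have hNn : N = 2 * k * q * d := by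
    have : (N : ℤ) = ((2 * k * q * d : ℕ) : ℤ) := by
      rw [hN]; push_cast; rw [hq, hd]
    exact_mod_cast this
  have hq0 : q ≠ 0 := by
    rintro rfl
    apply hN0; rw [hNn]; simp
  have hd0 : d ≠ 0 := by
    rintro rfl
    apply hN0; rw [hNn]; simp
  have hδu : ∀ m : ℕ, (m : ℤ) ∣ δ → m = 1 := by
    intro m hm
    have h1 : (m : ℤ) ∣ 1 := by
      rcases hδ with h | h
      · rwa [h] at hm
      · rw [h] at hm; exact (dvd_neg.mp hm)
    have := Int.natCast_dvd_natCast.mp (by simpa using h1 : (m : ℤ) ∣ ((1 : ℕ) : ℤ))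
    exact Nat.dvd_one.mp this
  -- d is odd
  have hdodd : ¬ 2 ∣ d := by
    intro h2
    have h2' : ((2 : ℕ) : ℤ) ∣ (d : ℤ) := Int.natCast_dvd_natCast.mpr h2
    have hk2' : ((2 : ℕ) : ℤ) ∣ (k : ℤ) := Int.natCast_dvd_natCast.mpr hk2
    rw [hd] at h2'
    have : ((2 : ℕ) : ℤ) ∣ δ := (Int.dvd_add_right hk2').mp h2'
    have := hδu 2 this
    omega
  constructor
  · intro p hp hpq
    have hpq' : (p : ℤ) ∣ 2 * (k : ℤ) + δ := by rw [← hq]; exact Int.natCast_dvd_natCast.mpr hpq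
    have hp2k : ¬ p ∣ 2 * k := by
      intro h
      have h' : (p : ℤ) ∣ 2 * (k : ℤ) := by
        have := Int.natCast_dvd_natCast.mpr h
        simpa using this
      have := hδu p ((Int.dvd_add_right h').mp hpq')
      exact hp.one_lt.ne' this
    have hpd : ¬ p ∣ d := by
      intro h
      have h' : (p : ℤ) ∣ (k : ℤ) + δ := by rw [← hd]; exact Int.natCast_dvd_natCast.mpr h
      have hk : (p : ℤ) ∣ (k : ℤ) := by
        have : (2 * (k : ℤ) + δ) - ((k : ℤ) + δ) = k := by ring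
        rw [← this]; exact dvd_sub hpq' h'
      apply hp2k
      have := Int.natCast_dvd_natCast.mp hk
      exact Dvd.dvd.mul_left this 2
    have hp2kd : ¬ p ∣ 2 * k * d := by
      intro h
      rcases (Nat.Prime.dvd_mul hp).mp h with h | h
      · exact hp2k h
      · exact hpd h
    have hfac : N.factorization p = q.factorization p := by
      have : N = (2 * k * d) * q := by rw [hNn]; ring
      rw [this]
      exact factorization_mul_right_of_not_dvd (by simp [hk0, hd0]) hq0 hp2kd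
    rw [hfac]
    exact Nat.ordProj_dvd q p
  · intro r hr hrd
    have hrd' : (r : ℤ) ∣ (k : ℤ) + δ := by rw [← hd]; exact Int.natCast_dvd_natCast.mpr hrd
    have hrk : ¬ r ∣ k := by
      intro h
      have h' : (r : ℤ) ∣ (k : ℤ) := Int.natCast_dvd_natCast.mpr h
      have := hδu r ((Int.dvd_add_right h').mp hrd')
      exact hr.one_lt.ne' this
    have hr2 : r ≠ 2 := by
      rintro rfl
      exact hdodd hrd
    have hr2k : ¬ r ∣ 2 * k := by
      intro h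
      rcases (Nat.Prime.dvd_mul hr).mp h with h | h
      · exact hr2 ((Nat.prime_dvd_prime_iff_eq hr Nat.prime_two).mp h)
      · exact hrk h
    have hrq : ¬ r ∣ q := by
      intro h
      have h' : (r : ℤ) ∣ 2 * (k : ℤ) + δ := by rw [← hq]; exact Int.natCast_dvd_natCast.mpr h
      have hk : (r : ℤ) ∣ (k : ℤ) := by
        have : (2 * (k : ℤ) + δ) - ((k : ℤ) + δ) = k := by ring
        rw [← this]; exact dvd_sub h' hrd'
      exact hrk (Int.natCast_dvd_natCast.mp hk)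
    have hr2kq : ¬ r ∣ 2 * k * q := by
      intro h
      rcases (Nat.Prime.dvd_mul hr).mp h with h | h
      · exact hr2k h
      · exact hrq h
    have hfac : N.factorization r = d.factorization r := by
      rw [hNn]
      exact factorization_mul_right_of_not_dvd (by simp [hk0, hq0]) hd0 hr2kq
    rw [hfac]
    exact Nat.ordProj_dvd d r

theorem s_vanish {G : Type*} [Group G] [Fintype G] [Fintype (IrrCharacter G)] {t s : G} {K : Subgroup G}
    [Fintype ↥K] [Fintype (↥K →* ℂˣ)]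
    {triv : IrrCharacter G} {σ : K →* ℂˣ} {δ : ℤ} {X : IrrCharacter G}
    {Λ : (K →* ℂˣ) → IrrCharacter G} {Y₁ Y₂ : IrrCharacter G} {ε₁ ε₂ : ℤ}
    (hk2 : 2 ∣ Nat.card K) (SA : ShapeA K triv σ δ X Λ Y₁ Y₂ ε₁ ε₂) (FS : FactsS t K triv σ δ X Λ Y₁ Y₂ ε₁ ε₂)
    {q d : ℕ} (hq : (q : ℤ) = 2 * Nat.card K + δ) (hd : (d : ℤ) = Nat.card K + δ) :
    (∀ g : G, ∀ p : ℕ, p.Prime → p ∣ q → p ∣ orderOf g → (X : G → ℂ) g = 0) ∧
    (∀ g : G, ∀ r : ℕ, r.Prime → r ∣ d → r ∣ orderOf g →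
      (∀ μ : K →* ℂˣ, μ ≠ 1 → μ ≠ σ → (Λ μ : G → ℂ) g = 0) ∧
        (Y₁ : G → ℂ) g = 0 ∧ (Y₂ : G → ℂ) g = 0) := by
  have hk0 : Nat.card K ≠ 0 := Nat.card_pos.ne'
  have hN0 : Nat.card G ≠ 0 := Nat.card_pos.ne'
  obtain ⟨hA, hB⟩ := arith_S6 SA.hδ hk2 hk0 hN0 hq hd FS.card_G
  -- degrees
  have hqC : ((q : ℕ) : ℂ) = 2 * (Nat.card K : ℂ) + (δ : ℂ) := by
    have : ((q : ℤ) : ℂ) = ((2 * (Nat.card K : ℤ) + δ : ℤ) : ℂ) := by rw [hq]
    push_cast at this
    exact this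
  have hdC : ((d : ℕ) : ℂ) = (Nat.card K : ℂ) + (δ : ℂ) := by
    have : ((d : ℤ) : ℂ) = (((Nat.card K : ℤ) + δ : ℤ) : ℂ) := by rw [hd]
    push_cast at this
    exact this
  have hdegX : charDegree (X : G → ℂ) = q := by
    have h1 := Cfsg.Agent.Helper79.irr_one X
    rw [FS.deg_X, ← hqC] at h1
    exact_mod_cast h1.symm
  have hdegY₁ : charDegree (Y₁ : G → ℂ) = d := by
    have h1 := Cfsg.Agent.Helper79.irr_one Y₁
    rw [FS.deg_Y.1, ← hdC] at h1
    exact_mod_cast h1.symm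
  have hdegY₂ : charDegree (Y₂ : G → ℂ) = d := by
    have h1 := Cfsg.Agent.Helper79.irr_one Y₂
    rw [FS.deg_Y.2, ← hdC] at h1
    exact_mod_cast h1.symm
  have hdegΛ : ∀ μ : K →* ℂˣ, μ ≠ 1 → μ ≠ σ → charDegree (Λ μ : G → ℂ) = 2 * d := by
    intro μ h1 h2
    have h3 := Cfsg.Agent.Helper79.irr_one (Λ μ)
    rw [FS.deg_Λ μ h1 h2, ← hdC] at h3
    have : ((charDegree (Λ μ : G → ℂ) : ℕ) : ℂ) = ((2 * d : ℕ) : ℂ) := by
      rw [← h3]; push_cast; ring
    exact_mod_cast this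
  constructor
  · intro g p hp hpq hpg
    apply Cfsg.Agent.Helper74.irr_eq_zero_of_defect_zero X hp _ g hpg
    rw [hdegX]
    exact hA p hp hpq
  · intro g r hr hrd hrg
    refine ⟨fun μ h1 h2 => ?_, ?_, ?_⟩
    · apply Cfsg.Agent.Helper74.irr_eq_zero_of_defect_zero (Λ μ) hr _ g hrg
      rw [hdegΛ μ h1 h2]
      exact Dvd.dvd.mul_left (hB r hr hrd) 2
    · apply Cfsg.Agent.Helper74.irr_eq_zero_of_defect_zero Y₁ hr _ g hrg
      rw [hdegY₁]
      exact hB r hr hrd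
    · apply Cfsg.Agent.Helper74.irr_eq_zero_of_defect_zero Y₂ hr _ g hrg
      rw [hdegY₂]
      exact hB r hr hrd

end Cfsg.Agent.Helper29.BSW
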