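import Cfsg.Agent.Helper71.BSW.DefsCT
import Cfsg.Agent.Helper79.CharComplete
import Cfsg.Agent.Helper79.CharBasic

/-!
# S3282 piece (S9) for helper71: the number of elements whose order is not prime to `q` is `q² - 1`.
-/

set_option autoImplicit false

namespace Cfsg.Agent.Helper29.BSW

open Cfsg Cfsg.Agent.Helper71.BSW
open scoped ComplexConjugate

theorem s_countQ {G : Type*} [Group G] [Fintype G] [Fintype (IrrCharacter G)] {t s : G} {K : Subgroup G}
    [Fintype ↥K] [Fintype (↥K →* ℂˣ)]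
    {triv : IrrCharacter G} {σ : K →* ℂˣ} {δ : ℤ} {X : IrrCharacter G}
    {Λ : (K →* ℂˣ) → IrrCharacter G} {Y₁ Y₂ : IrrCharacter G} {ε₁ ε₂ : ℤ}
    (h : Hyp t s K) (hk : 4 ≤ Nat.card K) (A0 : FactsA0 t s K) (A1 : FactsA1 t s K)
    (T : FactsT t s K) (SA : ShapeA K triv σ δ X Λ Y₁ Y₂ ε₁ ε₂) (FS : FactsS t K triv σ δ X Λ Y₁ Y₂ ε₁ ε₂)
    {q d : ℕ} (hq : (q : ℤ) = 2 * Nat.card K + δ) (hd : (d : ℤ) = Nat.card K + δ)
    (hvan : (∀ g : G, ∀ p : ℕ, p.Prime → p ∣ q → p ∣ orderOf g → (X : G → ℂ) g = 0) ∧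
    (∀ g : G, ∀ r : ℕ, r.Prime → r ∣ d → r ∣ orderOf g →
      (∀ μ : K →* ℂˣ, μ ≠ 1 → μ ≠ σ → (Λ μ : G → ℂ) g = 0) ∧
        (Y₁ : G → ℂ) g = 0 ∧ (Y₂ : G → ℂ) g = 0))
    (hoff : ∀ g : G, (∀ x : G, x * g * x⁻¹ ∉ K) →
    (∀ μ : K →* ℂˣ, μ ≠ 1 → μ ≠ σ →
      1 + (δ : ℂ) * (X : G → ℂ) g - (δ : ℂ) * (Λ μ : G → ℂ) g = 0) ∧
    1 + (δ : ℂ) * (X : G → ℂ) g - (δ : ℂ) * ((Y₁ : G → ℂ) g + (Y₂ : G → ℂ) g) = 0) :
    Nat.card {g : G // ¬ (orderOf g).Coprime q} + 1 = q ^ 2 := by
  classical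
  have hNn : Nat.card G = 2 * Nat.card K * q * d := by
    have : ((Nat.card G : ℕ) : ℤ) = ((2 * Nat.card K * q * d : ℕ) : ℤ) := by
      rw [FS.card_G]; push_cast; rw [hq, hd]
    exact_mod_cast this
  have hqC : ((q : ℕ) : ℂ) = 2 * (Nat.card K : ℂ) + (δ : ℂ) := by
    have : ((q : ℤ) : ℂ) = ((2 * (Nat.card K : ℤ) + δ : ℤ) : ℂ) := by rw [hq]
    push_cast at this
    exact this
  have hδsq : (δ : ℂ) * (δ : ℂ) = 1 := by
    rcases SA.hδ with h1 | h1 <;> rw [h1] <;> norm_num
  have hδconj : conj (δ : ℂ) = (δ : ℂ) := by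
    rcases SA.hδ with h1 | h1 <;> rw [h1] <;> simp
  have hXcf := Cfsg.Agent.Helper79.irr_isClassFunction X
  -- the pointwise identity
  have hpt : ∀ g : G, (X : G → ℂ) g * conj ((X : G → ℂ) g) +
      (if ¬ (orderOf g).Coprime q then (1 : ℂ) else 0) =
      1 + (if g = 1 then ((q : ℂ) ^ 2 - 1) else 0) := by
    intro g
    by_cases hg1 : g = 1
    · subst hg1
      rw [if_pos rfl, if_neg (by rw [orderOf_one]; simp), FS.deg_X, ← hqC]
      simp only [Complex.conj_natCast]
      ring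
    rw [if_neg hg1, add_zero]
    by_cases hcop : (orderOf g).Coprime q
    · rw [if_neg (not_not.mpr hcop), add_zero]
      by_cases hK : ∃ x : G, x * g * x⁻¹ ∈ K
      · obtain ⟨x, hx⟩ := hK
        have hne : x * g * x⁻¹ ≠ 1 := by
          intro h1
          apply hg1
          have : g = x⁻¹ * (x * g * x⁻¹) * x := by group
          rw [this, h1]; group
        have hval : (X : G → ℂ) g = δ := by
          rw [← hXcf g x]
          exact FS.val_X _ hx hne
        rw [hval, hδconj, hδsq]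
      · push_neg at hK
        -- the order of g divides d
        have hcop2 : (orderOf g).Coprime (2 * Nat.card K) := by
          by_contra hnc
          obtain ⟨x, hx⟩ := A1.conj_into_K g hnc
          exact hK x hx
        have hog : orderOf g ≠ 1 := by
          intro h1
          exact hg1 (orderOf_eq_one_iff.mp h1)
        obtain ⟨r, hr, hrg⟩ := Nat.exists_prime_and_dvd hog
        have hrG : r ∣ Nat.card G := dvd_trans hrg (orderOf_dvd_natCard g)
        have hr2k : ¬ r ∣ 2 * Nat.card K := by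
          intro h1
          have := Nat.dvd_gcd hrg h1
          rw [hcop2] at this
          exact hr.one_lt.ne' (Nat.dvd_one.mp this)
        have hrq : ¬ r ∣ q := by
          intro h1
          have := Nat.dvd_gcd hrg h1
          rw [hcop] at this
          exact hr.one_lt.ne' (Nat.dvd_one.mp this)
        have hrd : r ∣ d := by
          rw [hNn] at hrG
          rcases (Nat.Prime.dvd_mul hr).mp hrG with h1 | h1
          · rcases (Nat.Prime.dvd_mul hr).mp h1 with h2 | h2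
            · exact absurd h2 hr2k
            · exact absurd h2 hrq
          · exact h1
        obtain ⟨_, hY1, hY2⟩ := hvan.2 g r hr hrd hrg
        have h2 := (hoff g hK).2
        rw [hY1, hY2, add_zero, mul_zero, sub_zero] at h2
        have hval : (X : G → ℂ) g = -(δ : ℂ) := by
          have h3 : (δ : ℂ) * (1 + (δ : ℂ) * (X : G → ℂ) g) = 0 := by rw [h2, mul_zero]
          have h4 : (δ : ℂ) * (1 + (δ : ℂ) * (X : G → ℂ) g) = (δ : ℂ) + ((δ : ℂ) * (δ : ℂ)) * (X : G → ℂ) g := by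
            ring
          rw [h4, hδsq, one_mul] at h3
          exact eq_neg_of_add_eq_zero_right h3
        rw [hval, map_neg, hδconj]
        rw [neg_mul_neg, hδsq]
    · rw [if_pos hcop]
      obtain ⟨p, hp, hpg, hpq⟩ := Nat.Prime.not_coprime_iff_dvd.mp hcop
      rw [hvan.1 g p hp hpq hpg]
      simp
  -- sum over G
  have hsum := Finset.sum_congr (s₁ := (Finset.univ : Finset G)) rfl (fun g _ => hpt g)
  rw [Finset.sum_add_distrib, Finset.sum_add_distrib] at hsum
  have hnorm : ∑ g : G, (X : G → ℂ) g * conj ((X : G → ℂ) g) = (Nat.card G : ℂ) := by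
    have h1 := Cfsg.Agent.Helper79.classInner_irr_self X
    unfold classInner at h1
    have hN : (Nat.card G : ℂ) ≠ 0 := by
      have : Nat.card G ≠ 0 := Nat.card_pos.ne'
      exact_mod_cast this
    have h2 : (Nat.card G : ℂ) * ((Nat.card G : ℂ)⁻¹ * ∑ g : G, (X : G → ℂ) g * conj ((X : G → ℂ) g)) =
        (Nat.card G : ℂ) * 1 := by rw [h1]
    rw [← mul_assoc, mul_inv_cancel₀ hN, one_mul, mul_one] at h2
    exact h2
  have hcount : ∑ g : G, (if ¬ (orderOf g).Coprime q then (1 : ℂ) else 0) =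
      (Nat.card {g : G // ¬ (orderOf g).Coprime q} : ℂ) := by
    rw [Finset.sum_boole, Nat.card_eq_fintype_card, Fintype.card_subtype]
  have hone : ∑ _g : G, (1 : ℂ) = (Nat.card G : ℂ) := by
    rw [Finset.sum_const, Finset.card_univ, Nat.card_eq_fintype_card]
    simp
  have hite : ∑ g : G, (if g = 1 then ((q : ℂ) ^ 2 - 1) else 0) = (q : ℂ) ^ 2 - 1 := by
    rw [Finset.sum_ite_eq' Finset.univ (1 : G)]
    simp
  rw [hnorm, hcount, hone, hite] at hsum
  have hfin : ((Nat.card {g : G // ¬ (orderOf g).Coprime q} + 1 : ℕ) : ℂ) = ((q ^ 2 : ℕ) : ℂ) := by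
    push_cast
    have := add_left_cancel hsum
    rw [this]; ring
  exact_mod_cast hfin

end Cfsg.Agent.Helper29.BSW
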